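import Cfsg.Agent.Base

/-!
# Carmichael's generators and relations for the alternating groups

`A_n` is generated by the three-cycles `c i = (p q i)`, and any group generated by elements `y i`
with `y i ^ 3 = 1` and `(y i * y j) ^ 2 = 1` (`i ≠ j`) has order at most `(k + 2)! / 2`, where `k`
is the number of generators.
-/

set_option autoImplicit false

namespace CL.Alt

open Equiv Equiv.Perm

/-- Coset enumeration for Carmichael's presentation. -/
theorem carmichael_bound {H ι : Type*} [Group H] (y : ι → H) (s : Finset ι)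
    (h3 : ∀ i ∈ s, y i ^ 3 = 1) (h2 : ∀ i ∈ s, ∀ j ∈ s, i ≠ j → (y i * y j) ^ 2 = 1) :
    ∃ T : Finset H, (Subgroup.closure (y '' s) : Set H) ⊆ T ∧
      2 * T.card ≤ (s.card + 2).factorial := by
  classical
  induction s using Finset.induction_on with
  | empty => exact ⟨{1}, by simp, by simp⟩
  | insert k s hk ih =>
    obtain ⟨T, hT, hcard⟩ := ih (fun i hi => h3 i (Finset.mem_insert_of_mem hi))
      (fun i hi j hj => h2 i (Finset.mem_insert_of_mem hi) j (Finset.mem_insert_of_mem hj))
    set z := y k with hz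
    set K := Subgroup.closure (y '' s) with hK
    let R : Finset H := {1, z, z⁻¹} ∪ s.image (fun i => z⁻¹ * y i)
    have hR : R.card ≤ s.card + 3 := by
      refine (Finset.card_union_le _ _).trans ?_
      have h1 : ({1, z, z⁻¹} : Finset H).card ≤ 3 := Finset.card_le_three
      have h2 := Finset.card_image_le (s := s) (f := fun i => z⁻¹ * y i)
      omega
    have hyK : ∀ i ∈ s, y i ∈ K := fun i hi => Subgroup.subset_closure ⟨i, hi, rfl⟩
    have hz3 : z * z = z⁻¹ := by
      have := h3 k (Finset.mem_insert_self _ _)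
      rw [eq_inv_iff_mul_eq_one, ← this]; simp only [pow_succ, pow_zero, one_mul, hz]
    have hy3 : ∀ i ∈ s, y i * y i = (y i)⁻¹ := fun i hi => by
      have := h3 i (Finset.mem_insert_of_mem hi)
      rw [eq_inv_iff_mul_eq_one, ← this]; simp only [pow_succ, pow_zero, one_mul]
    have hzy : ∀ i ∈ s, z * y i * z = (y i)⁻¹ := fun i hi => by
      have := h2 k (Finset.mem_insert_self _ _) i (Finset.mem_insert_of_mem hi)
        (fun h => hk (h ▸ hi))
      rw [eq_inv_iff_mul_eq_one, ← this]; simp only [pow_succ, pow_zero, one_mul, hz, mul_assoc]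
    have hyz : ∀ i ∈ s, y i * z * y i = z⁻¹ := fun i hi => by
      have := h2 i (Finset.mem_insert_of_mem hi) k (Finset.mem_insert_self _ _)
        (fun h => hk (h ▸ hi))
      rw [eq_inv_iff_mul_eq_one, ← this]; simp only [pow_succ, pow_zero, one_mul, hz, mul_assoc]
    have hyy : ∀ i ∈ s, ∀ j ∈ s, i ≠ j → y i * y j * y i = (y j)⁻¹ := fun i hi j hj hij => by
      have := h2 i (Finset.mem_insert_of_mem hi) j (Finset.mem_insert_of_mem hj) hij
      rw [eq_inv_iff_mul_eq_one, ← this]; simp only [pow_succ, pow_zero, one_mul, mul_assoc]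
    have r1 : (1 : H) ∈ R := by simp [R]
    have rz : z ∈ R := by simp [R]
    have rz' : z⁻¹ ∈ R := by simp [R]
    have ry : ∀ i ∈ s, z⁻¹ * y i ∈ R := fun i hi =>
      Finset.mem_union_right _ (Finset.mem_image_of_mem _ hi)
    -- the key step: `K R` is stable under right multiplication by the generators
    have key : ∀ r ∈ R, ∀ j ∈ insert k s, ∃ h ∈ K, ∃ r' ∈ R, r * y j = h * r' := by
      intro r hr j hj
      rw [Finset.mem_insert] at hj
      simp only [R, Finset.mem_union, Finset.mem_insert, Finset.mem_singleton,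
        Finset.mem_image] at hr
      rcases hj with rfl | hj
      · rcases hr with (rfl | rfl | rfl) | ⟨i, hi, rfl⟩
        · exact ⟨1, K.one_mem, z, rz, rfl⟩
        · exact ⟨1, K.one_mem, z⁻¹, rz', by rw [one_mul]; exact hz3⟩
        · exact ⟨1, K.one_mem, 1, r1, by simp [hz]⟩
        · refine ⟨(y i)⁻¹, K.inv_mem (hyK i hi), _, ry i hi, ?_⟩
          have a1 := hzy i hi
          have a2 := hyz i hi
          have a3 := hy3 i hi
          calc z⁻¹ * y i * z = z * (z * y i * z) := by rw [← hz3]; simp only [mul_assoc]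
            _ = z * (y i * y i) := by rw [a1, a3]
            _ = (z * y i * z) * (z⁻¹ * y i) := by group
            _ = _ := by rw [a1]
      · rcases hr with (rfl | rfl | rfl) | ⟨i, hi, rfl⟩
        · exact ⟨y j, hyK j hj, 1, r1, by simp⟩
        · exact ⟨(y j)⁻¹, K.inv_mem (hyK j hj), z⁻¹, rz', by rw [← hzy j hj]; group⟩
        · exact ⟨1, K.one_mem, _, ry j hj, by simp⟩
        · by_cases hij : i = j
          · subst hij
            refine ⟨y i, hyK i hi, z, rz, ?_⟩
            rw [mul_assoc, hy3 i hi, ← hyz i hi]; group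
          · refine ⟨y j * (y i)⁻¹, K.mul_mem (hyK j hj) (K.inv_mem (hyK i hi)), _, ry i hi, ?_⟩
            have a1 := hyy i hi j hj hij
            calc z⁻¹ * y i * y j = z⁻¹ * (y i * y j * y i) * (y i)⁻¹ := by group
              _ = (y j * z * y j) * (y j)⁻¹ * (y i * y i) := by rw [a1, hyz j hj, hy3 i hi]
              _ = y j * (z * y i * z) * (z⁻¹ * y i) := by group
              _ = _ := by rw [hzy i hi]
    refine ⟨Finset.image₂ (· * ·) T R, fun g hg => ?_, ?_⟩
    · have hmain : ∃ h ∈ K, ∃ r ∈ R, g = h * r := by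
        rw [Finset.coe_insert] at hg
        induction hg using Subgroup.closure_induction_right with
        | one => exact ⟨1, K.one_mem, 1, r1, by simp⟩
        | mul_right x _ w hw ihx =>
          obtain ⟨j, hj, rfl⟩ := hw
          obtain ⟨h, hh, r, hr, rfl⟩ := ihx
          obtain ⟨h', hh', r', hr', he⟩ := key r hr j (by exact_mod_cast hj)
          exact ⟨h * h', K.mul_mem hh hh', r', hr', by rw [mul_assoc, he, mul_assoc]⟩
        | mul_inv_cancel x _ w hw ihx =>
          obtain ⟨j, hj, rfl⟩ := hw
          obtain ⟨h, hh, r, hr, rfl⟩ := ihx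
          have hj' : j ∈ insert k s := by exact_mod_cast hj
          obtain ⟨h', hh', r', hr', he⟩ := key r hr j hj'
          obtain ⟨h'', hh'', r'', hr'', he'⟩ := key r' hr' j hj'
          have a : (y j)⁻¹ = y j * y j := by
            rw [eq_comm, eq_inv_iff_mul_eq_one, ← h3 j hj']
            simp only [pow_succ, pow_zero, one_mul]
          refine ⟨h * h' * h'', K.mul_mem (K.mul_mem hh hh') hh'', r'', hr'', ?_⟩
          rw [a, mul_assoc h, ← mul_assoc r, he, mul_assoc h', he']
          simp only [mul_assoc]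
      obtain ⟨h, hh, r, hr, rfl⟩ := hmain
      exact Finset.mem_coe.2 (Finset.mem_image₂_of_mem (hT hh) hr)
    · rw [Finset.card_insert_of_notMem hk, show s.card + 1 + 2 = (s.card + 2) + 1 by ring,
        Nat.factorial_succ]
      calc 2 * (Finset.image₂ (· * ·) T R).card ≤ 2 * (T.card * R.card) :=
            Nat.mul_le_mul_left _ (Finset.card_image₂_le _ _ _)
        _ = R.card * (2 * T.card) := by ring
        _ ≤ _ := Nat.mul_le_mul hR hcard

/-- A group generated by `k` elements satisfying Carmichael's relations is finite of order at most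
`(k + 2)! / 2`. -/
theorem card_le_of_carmichael {H ι : Type*} [Group H] (y : ι → H) (s : Finset ι)
    (h3 : ∀ i ∈ s, y i ^ 3 = 1) (h2 : ∀ i ∈ s, ∀ j ∈ s, i ≠ j → (y i * y j) ^ 2 = 1)
    (htop : Subgroup.closure (y '' s) = ⊤) :
    Finite H ∧ 2 * Nat.card H ≤ (s.card + 2).factorial := by
  obtain ⟨T, hT, hc⟩ := carmichael_bound y s h3 h2
  rw [htop, Subgroup.coe_top] at hT
  have hfin : Finite H := Set.finite_univ_iff.1 (T.finite_toSet.subset hT)
  refine ⟨hfin, le_trans (Nat.mul_le_mul_left _ ?_) hc⟩
  have := Set.ncard_le_ncard hT T.finite_toSet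
  rwa [Set.ncard_univ, Set.ncard_coe_finset] at this

variable {α : Type*} [DecidableEq α]

/-- The three-cycle `(p q i)`. -/
def cyc (p q i : α) : Perm α := swap p i * swap p q

theorem cyc_apply_fst {p q i : α} (hpq : p ≠ q) (hqi : q ≠ i) : cyc p q i p = q := by
  simp [cyc, swap_apply_of_ne_of_ne hpq.symm hqi]

theorem cyc_apply_snd (p q i : α) : cyc p q i q = i := by
  simp [cyc]

theorem cyc_apply_thd {p q i : α} (hpi : p ≠ i) (hqi : q ≠ i) : cyc p q i i = p := by
  simp [cyc, swap_apply_of_ne_of_ne hpi.symm hqi.symm]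

theorem cyc_apply_of_ne {p q i x : α} (hp : x ≠ p) (hq : x ≠ q) (hi : x ≠ i) :
    cyc p q i x = x := by
  simp [cyc, swap_apply_of_ne_of_ne hp hq, swap_apply_of_ne_of_ne hp hi]

theorem conj_cyc (g : Perm α) (p q i : α) : g * cyc p q i * g⁻¹ = cyc (g p) (g q) (g i) := by
  rw [cyc, cyc, swap_apply_apply, swap_apply_apply]; group

theorem cyc_inv {p q i : α} (hpq : p ≠ q) (hpi : p ≠ i) (hqi : q ≠ i) :
    (cyc p q i)⁻¹ = cyc q p i := by
  rw [inv_eq_iff_mul_eq_one]
  ext x
  simp only [cyc, Perm.mul_apply, swap_apply_def, Perm.one_apply]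
  grind

theorem cyc_pow_three {p q i : α} (hpq : p ≠ q) (hpi : p ≠ i) (hqi : q ≠ i) :
    cyc p q i ^ 3 = 1 := by
  ext x
  simp only [pow_succ, pow_zero, one_mul, cyc, Perm.mul_apply, swap_apply_def, Perm.one_apply]
  grind

theorem cyc_mul_cyc_sq {p q i j : α} (hpq : p ≠ q) (hpi : p ≠ i) (hqi : q ≠ i) (hpj : p ≠ j)
    (hqj : q ≠ j) (hij : i ≠ j) : (cyc p q i * cyc p q j) ^ 2 = 1 := by
  ext x
  simp only [pow_succ, pow_zero, one_mul, cyc, Perm.mul_apply, swap_apply_def, Perm.one_apply]
  grind

variable [Fintype α]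

theorem isThreeCycle_cyc {p q i : α} (hpq : p ≠ q) (hpi : p ≠ i) (hqi : q ≠ i) :
    (cyc p q i).IsThreeCycle :=
  isThreeCycle_swap_mul_swap_same hpi hpq hqi.symm

theorem cyc_mem {p q i : α} (hpq : p ≠ q) (hpi : p ≠ i) : cyc p q i ∈ alternatingGroup α := by
  simp [cyc, mem_alternatingGroup, hpq, hpi]

/-- The three-cycles `(p q i)` generate the alternating group. -/
theorem closure_cyc {p q : α} (hpq : p ≠ q) :
    Subgroup.closure (cyc p q '' {i | p ≠ i ∧ q ≠ i}) = alternatingGroup α := by
  set H := Subgroup.closure (cyc p q '' {i | p ≠ i ∧ q ≠ i}) with hH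
  have hle : H ≤ alternatingGroup α := by
    rw [hH, Subgroup.closure_le]
    rintro _ ⟨i, hi, rfl⟩
    exact cyc_mem hpq hi.1
  have h1 : ∀ h ∈ H, swap p q * h * swap p q ∈ H := by
    intro h hh
    induction hh using Subgroup.closure_induction with
    | mem x hx =>
      obtain ⟨i, hi, rfl⟩ := hx
      have := conj_cyc (swap p q) p q i
      rw [swap_inv, swap_apply_left, swap_apply_right,
        swap_apply_of_ne_of_ne hi.1.symm hi.2.symm, ← cyc_inv hpq hi.1 hi.2] at this
      rw [this]
      exact H.inv_mem (Subgroup.subset_closure ⟨i, hi, rfl⟩)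
    | one => simp
    | mul x y _ _ hx hy =>
      have := H.mul_mem hx hy
      simpa only [mul_assoc, swap_mul_self_mul] using this
    | inv x _ hx =>
      have := H.inv_mem hx
      simpa only [mul_inv_rev, swap_inv, mul_assoc] using this
  have h2 : ∀ y, p ≠ y → swap p y * swap p q ∈ H := by
    intro y hy
    by_cases hq : q = y
    · subst hq; simp
    · exact Subgroup.subset_closure ⟨y, ⟨hy, hq⟩, rfl⟩
  have h3 : ∀ x y, x ≠ y → swap x y * swap p q ∈ H := by
    intro x y hxy
    by_cases hx : p = x
    · subst hx; exact h2 y hxy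
    by_cases hy : p = y
    · subst hy; rw [swap_comm]; exact h2 x hx
    have h4 : swap x y = swap p x * swap p y * swap p x := by
      ext w
      simp only [Perm.mul_apply, swap_apply_def]
      grind
    have := H.mul_mem (H.mul_mem (h2 x hx) (h1 _ (h2 y hy))) (h2 x hx)
    rw [h4]
    simpa only [mul_assoc, swap_mul_self_mul] using this
  have h4 : ∀ σ : Perm α, σ ∈ H ∨ σ * swap p q ∈ H := by
    intro σ
    induction σ using swap_induction_on with
    | one => exact Or.inl H.one_mem
    | swap_mul f x y hxy ih =>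
      rcases ih with ih | ih
      · right
        have := H.mul_mem (h3 x y hxy) (h1 _ ih)
        simpa only [mul_assoc, swap_mul_self_mul] using this
      · left
        have := H.mul_mem (h3 x y hxy) (h1 _ ih)
        simpa only [mul_assoc, swap_mul_self_mul, swap_mul_self, mul_one] using this
  refine le_antisymm hle fun σ hσ => (h4 σ).resolve_right fun h => ?_
  have := hle h
  rw [mem_alternatingGroup] at this hσ
  rw [map_mul, hσ, sign_swap hpq] at this
  simp at this

/-- The index set of the Carmichael generators. -/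
def rest (p q : α) : Finset α := Finset.univ.filter (fun i => p ≠ i ∧ q ≠ i)

theorem mem_rest {p q i : α} : i ∈ rest p q ↔ p ≠ i ∧ q ≠ i := by simp [rest]

theorem card_rest {p q : α} (hpq : p ≠ q) : (rest p q).card + 2 = Fintype.card α := by
  have : rest p q = ({p, q} : Finset α)ᶜ := by
    ext i; simp [mem_rest, eq_comm]
  rw [this, Finset.card_compl, Finset.card_pair hpq]
  have : ({p, q} : Finset α).card ≤ Fintype.card α := Finset.card_le_univ _
  rw [Finset.card_pair hpq] at this
  omega

/-- A family of elements of the alternating group given by the three-cycles `(p q i)` generates. -/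
theorem closure_eq_top_of_coe_eq_cyc {p q : α} (hpq : p ≠ q) (x : α → alternatingGroup α)
    (hx : ∀ i ∈ rest p q, (x i : Perm α) = cyc p q i) :
    Subgroup.closure (x '' rest p q) = ⊤ := by
  apply Subgroup.map_injective (alternatingGroup α).subtype_injective
  rw [MonoidHom.map_closure, ← MonoidHom.range_eq_map, Subgroup.range_subtype]
  refine Eq.trans ?_ (closure_cyc hpq)
  congr 1
  ext σ
  constructor
  · rintro ⟨_, ⟨i, hi, rfl⟩, rfl⟩
    exact ⟨i, mem_rest.1 hi, (hx i hi).symm⟩
  · rintro ⟨i, hi, rfl⟩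
    exact ⟨_, ⟨i, mem_rest.2 hi, rfl⟩, hx i (mem_rest.2 hi)⟩

theorem two_mul_card_alt {p q : α} (hpq : p ≠ q) :
    2 * Nat.card (alternatingGroup α) = ((rest p q).card + 2).factorial := by
  have : Nontrivial α := ⟨p, q, hpq⟩
  rw [two_mul_nat_card_alternatingGroup, card_rest hpq, Nat.card_perm, Nat.card_eq_fintype_card]

end CL.Alt
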