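import Cfsg.Agent.Alt.Carmichael

/-!
# The double cover of the alternating group, from a Clifford algebra
-/

set_option autoImplicit false

namespace CL.Alt

open Equiv Equiv.Perm

section Ring

variable {R : Type*} [Ring R] [Algebra ℚ R]

theorem cliff_pow_three {a b : R} (ha : a * a = 2) (hb : b * b = 2) (hab : a * b + b * a = 2) :
    ((-1 / 2 : ℚ) • (a * b)) ^ 3 = 1 := by
  have h1 : b * a = 2 - a * b := by rw [← hab]; noncomm_ring
  have h2 : a * b * (a * b) = 2 * (a * b) - 4 := by
    calc a * b * (a * b) = a * (b * a) * b := by noncomm_ring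
      _ = 2 * (a * b) - (a * a) * (b * b) := by rw [h1]; noncomm_ring
      _ = _ := by rw [ha, hb]; norm_num
  have h3 : (a * b) ^ 3 = -8 := by
    calc (a * b) ^ 3 = a * b * (a * b) * (a * b) := by noncomm_ring
      _ = (2 * (a * b) - 4) * (a * b) := by rw [h2]
      _ = 2 * (a * b * (a * b)) - 4 * (a * b) := by noncomm_ring
      _ = _ := by rw [h2, mul_sub, ← mul_assoc]; norm_num
  rw [smul_pow, h3, show (-8 : R) = (-8 : ℚ) • (1 : R) by
    rw [← Algebra.algebraMap_eq_smul_one, map_neg, map_ofNat], smul_smul]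
  norm_num

theorem cliff_mul_sq {a b c : R} (ha : a * a = 2) (hb : b * b = 2) (hc : c * c = 2)
    (hab : a * b + b * a = 2) (hac : a * c + c * a = 2) (hbc : b * c + c * b = 2) :
    ((-1 / 2 : ℚ) • (a * b) * (-1 / 2 : ℚ) • (a * c)) ^ 2 = -1 := by
  have h1 : b * a = 2 - a * b := by rw [← hab]; noncomm_ring
  have h2 : a * b * (a * c) = 2 * ((a - b) * c) := by
    calc a * b * (a * c) = a * (b * a) * c := by noncomm_ring
      _ = 2 * (a * c) - (a * a) * (b * c) := by rw [h1]; noncomm_ring
      _ = _ := by rw [ha]; noncomm_ring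
  have h3 : c * (a - b) = -((a - b) * c) := by
    calc c * (a - b) = (a * c + c * a) - (b * c + c * b) - (a - b) * c := by noncomm_ring
      _ = _ := by rw [hac, hbc]; noncomm_ring
  have h4 : (a - b) * (a - b) = 2 := by
    calc (a - b) * (a - b) = a * a + b * b - (a * b + b * a) := by noncomm_ring
      _ = _ := by rw [ha, hb, hab]; norm_num
  have h5 : (a * b * (a * c)) ^ 2 = -16 := by
    calc (a * b * (a * c)) ^ 2 = 4 * ((a - b) * (c * (a - b)) * c) := by rw [h2]; noncomm_ring
      _ = -4 * (((a - b) * (a - b)) * (c * c)) := by rw [h3]; noncomm_ring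
      _ = _ := by rw [h4, hc]; norm_num
  rw [smul_mul_smul_comm, smul_pow, h5, show (-16 : R) = (-16 : ℚ) • (1 : R) by
    rw [← Algebra.algebraMap_eq_smul_one, map_neg, map_ofNat], smul_smul]
  norm_num

end Ring

variable {α : Type} [DecidableEq α] [Fintype α]

/-- Units of order three whose products square to `-1`. -/
theorem exists_units_carmichael (p q : α) (hpq : p ≠ q) :
    ∃ (R : Type) (_ : Ring R) (x : α → Rˣ), (-1 : Rˣ) ≠ 1 ∧ (∀ i, x i ^ 3 = 1) ∧
      (∀ i, i ∉ rest p q → x i = 1) ∧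
      ∀ i ∈ rest p q, ∀ j ∈ rest p q, i ≠ j → (x i * x j) ^ 2 = -1 := by
  let Q : QuadraticForm ℚ (α → ℚ) := QuadraticMap.weightedSumSquares ℚ (fun _ : α => (1 : ℚ))
  let e : α → CliffordAlgebra Q := fun i => CliffordAlgebra.ι Q (Pi.single i 1)
  have hQ : ∀ v, Q v = ∑ i, v i * v i := fun v => by
    simp [Q, QuadraticMap.weightedSumSquares_apply]
  have he1 : ∀ i, e i * e i = 1 := fun i => by
    simp only [e, CliffordAlgebra.ι_sq_scalar, hQ]
    rw [Finset.sum_eq_single i] <;> simp +contextual [Pi.single_apply]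
  have he2 : ∀ i j, i ≠ j → e i * e j + e j * e i = 0 := fun i j hij => by
    simp only [e, CliffordAlgebra.ι_mul_ι_add_swap, QuadraticMap.polar, hQ]
    rw [← Finset.sum_sub_distrib, ← Finset.sum_sub_distrib, Finset.sum_eq_zero, map_zero]
    intro k _
    by_cases h1 : k = i <;> by_cases h2 : k = j <;> simp_all [Pi.single_apply]
  have hb : ∀ i, p ≠ i → (e p - e i) * (e p - e i) = 2 := fun i hi => by
    calc (e p - e i) * (e p - e i) = e p * e p + e i * e i - (e p * e i + e i * e p) := by
          noncomm_ring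
      _ = _ := by rw [he1, he1, he2 _ _ hi]; norm_num
  have hbb : ∀ i j, p ≠ i → p ≠ j → i ≠ j →
      (e p - e i) * (e p - e j) + (e p - e j) * (e p - e i) = 2 := fun i j hi hj hij => by
    calc _ = 2 * (e p * e p) - (e p * e i + e i * e p) - (e p * e j + e j * e p) +
          (e i * e j + e j * e i) := by noncomm_ring
      _ = _ := by rw [he1, he2 _ _ hi, he2 _ _ hj, he2 _ _ hij]; norm_num
  let x : α → (CliffordAlgebra Q)ˣ := fun i => if h : i ∈ rest p q then
    Units.ofPowEqOne _ 3 (cliff_pow_three (hb q hpq) (hb i (mem_rest.1 h).1)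
      (hbb q i hpq (mem_rest.1 h).1 (mem_rest.1 h).2)) (by norm_num) else 1
  have hx : ∀ i ∈ rest p q, (x i : CliffordAlgebra Q) =
      (-1 / 2 : ℚ) • ((e p - e q) * (e p - e i)) := fun i hi => by
    simp only [x, dif_pos hi, Units.val_ofPowEqOne]
  have : CharZero (CliffordAlgebra Q) := algebraRat.charZero _
  refine ⟨CliffordAlgebra Q, inferInstance, x, ?_, ?_, ?_, ?_⟩
  · intro h
    have h1 := congrArg Units.val h
    simp only [Units.val_neg, Units.val_one] at h1
    exact absurd h1 (by norm_num)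
  · intro i
    by_cases hi : i ∈ rest p q
    · simp only [x, dif_pos hi, Units.pow_ofPowEqOne]
    · simp only [x, dif_neg hi, one_pow]
  · intro i hi
    simp only [x, dif_neg hi]
  · intro i hi j hj hij
    ext
    rw [Units.val_pow_eq_pow_val, Units.val_mul, hx i hi, hx j hj]
    have h1 := mem_rest.1 hi
    have h2 := mem_rest.1 hj
    exact cliff_mul_sq (hb q hpq) (hb i h1.1) (hb j h2.1) (hbb q i hpq h1.1 h1.2)
      (hbb q j hpq h2.1 h2.2) (hbb i j h1.1 h2.1 hij)

/-- The double cover of the alternating group on at least four letters. -/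
theorem exists_doubleCover (h4 : 4 ≤ Fintype.card α) :
    ∃ (Γ : Type) (_ : Group Γ) (_ : Finite Γ) (f : Γ →* alternatingGroup α) (z : Γ),
      Function.Surjective f ∧ f.ker = Subgroup.zpowers z ∧ z ∈ Subgroup.center Γ ∧
        orderOf z = 2 ∧ z ∈ commutator Γ := by
  obtain ⟨p, q, hpq⟩ := Fintype.exists_pair_of_one_lt_card (α := α) (by omega)
  obtain ⟨R, _, x, hneg, hx3, hx1, hx2⟩ := exists_units_carmichael p q hpq
  have hcr := card_rest hpq
  obtain ⟨i₀, hi₀, j₀, hj₀, hij₀⟩ := Finset.one_lt_card.1 (show 1 < (rest p q).card by omega)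
  let c : α → alternatingGroup α := fun i => if h : i ∈ rest p q then
    ⟨cyc p q i, cyc_mem hpq (mem_rest.1 h).1⟩ else 1
  have hc : ∀ i ∈ rest p q, (c i : Perm α) = cyc p q i := fun i hi => by simp only [c, dif_pos hi]
  let g : α → alternatingGroup α × Rˣ := fun i => (c i, x i)
  let Γ := Subgroup.closure (Set.range g)
  let y : α → Γ := fun i => ⟨g i, Subgroup.subset_closure ⟨i, rfl⟩⟩
  have hy3 : ∀ i ∈ rest p q, y i ^ 3 = 1 := fun i hi => by
    refine Subtype.ext (Prod.ext (Subtype.ext ?_) (hx3 i))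
    change (c i : Perm α) ^ 3 = 1
    rw [hc i hi]
    exact cyc_pow_three hpq (mem_rest.1 hi).1 (mem_rest.1 hi).2
  have hy2 : ∀ i ∈ rest p q, ∀ j ∈ rest p q, i ≠ j →
      (((y i * y j) ^ 2 : Γ) : alternatingGroup α × Rˣ) = (1, -1) := fun i hi j hj hij => by
    refine Prod.ext (Subtype.ext ?_) (hx2 i hi j hj hij)
    change ((c i : Perm α) * c j) ^ 2 = 1
    rw [hc i hi, hc j hj]
    exact cyc_mul_cyc_sq hpq (mem_rest.1 hi).1 (mem_rest.1 hi).2 (mem_rest.1 hj).1
      (mem_rest.1 hj).2 hij
  let z : Γ := (y i₀ * y j₀) ^ 2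
  have hz : (z : alternatingGroup α × Rˣ) = (1, -1) := hy2 _ hi₀ _ hj₀ hij₀
  have hzc : z ∈ Subgroup.center Γ := by
    rw [Subgroup.mem_center_iff]
    intro γ
    apply Subtype.ext
    rw [Subgroup.coe_mul, Subgroup.coe_mul, hz]
    ext1 <;> simp
  have hz2 : z ^ 2 = 1 := by
    apply Subtype.ext
    rw [Subgroup.coe_pow, hz]
    ext1 <;> simp
  have hz1 : z ≠ 1 := fun h => hneg (by
    rw [h] at hz
    exact (congrArg Prod.snd hz).symm)
  have hord : orderOf z = 2 := orderOf_eq_prime hz2 hz1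
  have hzn : (Subgroup.zpowers z).Normal := ⟨fun n hn γ => by
    rwa [Subgroup.mem_center_iff.1 (Subgroup.zpowers_le.2 hzc hn) γ, mul_inv_cancel_right]⟩
  have htop : Subgroup.closure (y '' rest p q) = ⊤ := by
    rw [eq_top_iff]
    rintro ⟨γ, hγ⟩ -
    induction hγ using Subgroup.closure_induction with
    | mem γ hγ =>
      obtain ⟨i, rfl⟩ := hγ
      by_cases hi : i ∈ rest p q
      · exact Subgroup.subset_closure ⟨i, hi, rfl⟩
      · have : y i = 1 := by
          refine Subtype.ext (Prod.ext ?_ (hx1 i hi))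
          change c i = 1
          simp only [c, dif_neg hi]
        exact (congrArg (· ∈ _) this).mpr (Subgroup.one_mem _)
    | one => exact Subgroup.one_mem _
    | mul a b _ _ ha hb => exact Subgroup.mul_mem _ ha hb
    | inv a _ ha => exact Subgroup.inv_mem _ ha
  let f : Γ →* alternatingGroup α := (MonoidHom.fst _ _).comp Γ.subtype
  have hf : Function.Surjective f := by
    rw [← MonoidHom.range_eq_top, MonoidHom.range_eq_map, ← htop, MonoidHom.map_closure,
      Set.image_image]
    exact closure_eq_top_of_coe_eq_cyc hpq _ hc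
  have hzf : Subgroup.zpowers z ≤ f.ker := Subgroup.zpowers_le.2 (congrArg Prod.fst hz)
  obtain ⟨hfin, hcard⟩ := card_le_of_carmichael
    (fun i => QuotientGroup.mk' (Subgroup.zpowers z) (y i)) (rest p q)
    (fun i hi => by rw [← map_pow, hy3 i hi, map_one])
    (fun i hi j hj hij => by
      rw [← map_mul, ← map_pow, show (y i * y j) ^ 2 = z from
        Subtype.ext ((hy2 i hi j hj hij).trans hz.symm)]
      exact (QuotientGroup.eq_one_iff _).2 (Subgroup.mem_zpowers z))
    (by
      rw [← Set.image_image, ← MonoidHom.map_closure, htop, ← MonoidHom.range_eq_map,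
        QuotientGroup.range_mk'])
  have hzfin : Finite (Subgroup.zpowers z) :=
    Nat.finite_of_card_ne_zero (by rw [Nat.card_zpowers, hord]; norm_num)
  have hΓ : Finite Γ :=
    Finite.of_equiv _ (Subgroup.groupEquivQuotientProdSubgroup (s := Subgroup.zpowers z)).symm
  refine ⟨Γ, inferInstance, hΓ, f, z, hf, ?_, hzc, hord, ?_⟩
  · refine (Subgroup.eq_of_le_of_card_ge hzf ?_).symm
    have h1 := two_mul_card_alt hpq
    have h2 := Subgroup.card_eq_card_quotient_mul_card_subgroup (Subgroup.zpowers z)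
    have h3 := Subgroup.card_eq_card_quotient_mul_card_subgroup f.ker
    rw [Nat.card_congr (QuotientGroup.quotientKerEquivOfSurjective f hf).toEquiv] at h3
    have h5 : 0 < Nat.card (alternatingGroup α) := Nat.card_pos
    have h6 : Nat.card (Γ ⧸ Subgroup.zpowers z) ≤ Nat.card (alternatingGroup α) := by omega
    refine Nat.le_of_mul_le_mul_left ?_ h5
    rw [← h3, h2]
    exact Nat.mul_le_mul_right _ h6
  · rw [← Abelianization.ker_of, MonoidHom.mem_ker]
    have h1 : (Abelianization.of (y i₀ * y j₀)) ^ 3 = 1 := by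
      rw [map_mul, mul_pow, ← map_pow, ← map_pow, hy3 _ hi₀, hy3 _ hj₀, map_one, mul_one]
    have h2 : (Abelianization.of (y i₀ * y j₀)) ^ 4 = 1 := by
      rw [← map_pow, show 4 = 2 * 2 from rfl, pow_mul]
      exact (congrArg _ hz2).trans (map_one _)
    rw [pow_succ, h1, one_mul] at h2
    rw [map_pow, h2, one_pow]

end CL.Alt
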