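import Cfsg.Agent.Alt.Carmichael

/-!
# Central extensions of the alternating groups
-/

set_option autoImplicit false

namespace CL.Alt

open Equiv Equiv.Perm
open scoped commutatorElement

/-- A subgroup supplementing a central subgroup contained in the commutator subgroup is
everything. -/
theorem eq_top_of_sup_central {Γ : Type*} [Group Γ] (H Z : Subgroup Γ)
    (hZc : Z ≤ Subgroup.center Γ) (hZd : Z ≤ commutator Γ)
    (h : ∀ g : Γ, ∃ x ∈ H, ∃ z ∈ Z, g = x * z) : H = ⊤ := by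
  have h1 : commutator Γ ≤ H := by
    rw [commutator, Subgroup.commutator_le]
    intro a _ b _
    obtain ⟨x, hx, z, hz, rfl⟩ := h a
    obtain ⟨y, hy, w, hw, rfl⟩ := h b
    have hz' := Subgroup.mem_center_iff.1 (hZc hz)
    have hw' := Subgroup.mem_center_iff.1 (hZc hw)
    have : ⁅x * z, y * w⁆ = x * y * x⁻¹ * y⁻¹ := by
      rw [commutatorElement_def, mul_inv_rev, mul_inv_rev]
      calc x * z * (y * w) * (z⁻¹ * x⁻¹) * (w⁻¹ * y⁻¹)
          = x * (z * (y * w)) * z⁻¹ * x⁻¹ * w⁻¹ * y⁻¹ := by group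
        _ = x * y * (w * x⁻¹) * w⁻¹ * y⁻¹ := by rw [← hz' (y * w)]; group
        _ = _ := by rw [← hw' x⁻¹]; group
    rw [this]
    exact H.mul_mem (H.mul_mem (H.mul_mem hx hy) (H.inv_mem hx)) (H.inv_mem hy)
  rw [eq_top_iff]
  intro g _
  obtain ⟨x, hx, z, hz, rfl⟩ := h g
  exact H.mul_mem hx (h1 (hZd hz))

variable {α : Type*} [DecidableEq α] [Fintype α] {Γ : Type*} [Group Γ]

/-- If the three-cycles have a conjugation- and inversion-invariant system of lifts of order three,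
then the kernel of a stem extension of the alternating group has order at most two. -/
theorem card_ker_le_two_of_canonical [Finite Γ] (f : Γ →* alternatingGroup α)
    (hf : Function.Surjective f) (hZc : f.ker ≤ Subgroup.center Γ) (hZd : f.ker ≤ commutator Γ)
    {p q : α} (hpq : p ≠ q) (Can : Γ → Prop)
    (hex : ∀ c : alternatingGroup α, (c : Perm α).IsThreeCycle → ∃ γ, Can γ ∧ f γ = c)
    (huniq : ∀ γ δ, Can γ → Can δ → f γ = f δ → γ = δ) (hinv : ∀ γ, Can γ → Can γ⁻¹)
    (hpow : ∀ γ, Can γ → γ ^ 3 = 1) (hconj : ∀ γ g, Can γ → Can (g * γ * g⁻¹)) :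
    Nat.card f.ker ≤ 2 := by
  classical
  have hex' : ∀ i : α, ∃ γ, i ∈ rest p q → Can γ ∧ (f γ : Perm α) = cyc p q i := by
    intro i
    by_cases hi : i ∈ rest p q
    · obtain ⟨h1, h2⟩ := mem_rest.1 hi
      obtain ⟨γ, h3, h4⟩ := hex ⟨cyc p q i, cyc_mem hpq h1⟩ (isThreeCycle_cyc hpq h1 h2)
      exact ⟨γ, fun _ => ⟨h3, by rw [h4]⟩⟩
    · exact ⟨1, fun h => absurd h hi⟩
  choose y hy using hex'
  have hb : ∀ i ∈ rest p q, ∀ j ∈ rest p q, i ≠ j → (y i * y j) ^ 2 ∈ f.ker := by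
    intro i hi j hj hij
    rw [MonoidHom.mem_ker]
    apply Subtype.ext
    rw [map_pow, map_mul, Subgroup.coe_pow, Subgroup.coe_mul, (hy i hi).2, (hy j hj).2]
    exact cyc_mul_cyc_sq hpq (mem_rest.1 hi).1 (mem_rest.1 hi).2 (mem_rest.1 hj).1
      (mem_rest.1 hj).2 hij
  have hcen : ∀ z ∈ f.ker, ∀ g : Γ, g * z * g⁻¹ = z := fun z hz g => by
    rw [Subgroup.mem_center_iff.1 (hZc hz) g, mul_inv_cancel_right]
  have hsymm : ∀ i ∈ rest p q, ∀ j ∈ rest p q, i ≠ j → (y i * y j) ^ 2 = (y j * y i) ^ 2 := by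
    intro i hi j hj hij
    rw [← hcen _ (hb i hi j hj hij) (y j), ← conj_pow]
    congr 1; group
  have hcj : ∀ (g : Γ) (i : α) (hi : i ∈ rest p q) (δ : Γ), Can δ →
      (f δ : Perm α) = cyc ((f g : Perm α) p) ((f g : Perm α) q) ((f g : Perm α) i) →
      g * y i * g⁻¹ = δ := by
    intro g i hi δ hδ h
    refine huniq _ _ (hconj _ _ (hy i hi).1) hδ (Subtype.ext ?_)
    rw [h, ← conj_cyc, ← (hy i hi).2]
    simp
  have hrot : ∀ i ∈ rest p q, ∀ j ∈ rest p q, ∀ k ∈ rest p q, i ≠ j → i ≠ k → j ≠ k →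
      (y i * y j) ^ 2 = (y j * y k) ^ 2 := by
    intro i hi j hj k hk hij hik hjk
    obtain ⟨g, hg⟩ := hf ⟨cyc i j k, cyc_mem hij hik⟩
    have hg' : (f g : Perm α) = cyc i j k := by rw [hg]
    obtain ⟨hi1, hi2⟩ := mem_rest.1 hi
    obtain ⟨hj1, hj2⟩ := mem_rest.1 hj
    obtain ⟨hk1, hk2⟩ := mem_rest.1 hk
    have h1 := hcj g i hi (y j) (hy j hj).1 (by
      rw [hg', cyc_apply_of_ne hi1 hj1 hk1, cyc_apply_of_ne hi2 hj2 hk2, cyc_apply_fst hij hjk,
        (hy j hj).2])
    have h2 := hcj g j hj (y k) (hy k hk).1 (by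
      rw [hg', cyc_apply_of_ne hi1 hj1 hk1, cyc_apply_of_ne hi2 hj2 hk2, cyc_apply_snd,
        (hy k hk).2])
    have h3 : g * (y i * y j) * g⁻¹ = y j * y k := by
      rw [show g * (y i * y j) * g⁻¹ = (g * y i * g⁻¹) * (g * y j * g⁻¹) by group, h1, h2]
    rw [← hcen _ (hb i hi j hj hij) g, ← conj_pow, h3]
  have hsq : ∀ i ∈ rest p q, ∀ j ∈ rest p q, i ≠ j → ((y i * y j) ^ 2) ^ 2 = 1 := by
    intro i hi j hj hij
    obtain ⟨hi1, hi2⟩ := mem_rest.1 hi
    obtain ⟨hj1, hj2⟩ := mem_rest.1 hj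
    obtain ⟨g, hg⟩ := hf ⟨swap p q * swap i j, by simp [mem_alternatingGroup, hpq, hij]⟩
    have hg' : (f g : Perm α) = swap p q * swap i j := by rw [hg]
    have e1 : (swap p q * swap i j) p = q := by simp [swap_apply_of_ne_of_ne hi1 hj1]
    have e2 : (swap p q * swap i j) q = p := by simp [swap_apply_of_ne_of_ne hi2 hj2]
    have e3 : (swap p q * swap i j) i = j := by simp [swap_apply_of_ne_of_ne hj1.symm hj2.symm]
    have e4 : (swap p q * swap i j) j = i := by simp [swap_apply_of_ne_of_ne hi1.symm hi2.symm]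
    have h1 := hcj g i hi (y j)⁻¹ (hinv _ (hy j hj).1) (by
      rw [hg', e1, e2, e3, map_inv, Subgroup.coe_inv, (hy j hj).2, cyc_inv hpq hj1 hj2])
    have h2 := hcj g j hj (y i)⁻¹ (hinv _ (hy i hi).1) (by
      rw [hg', e1, e2, e4, map_inv, Subgroup.coe_inv, (hy i hi).2, cyc_inv hpq hi1 hi2])
    have h3 : (y i * y j) ^ 2 = ((y i * y j) ^ 2)⁻¹ := by
      conv_lhs => rw [← hcen _ (hb i hi j hj hij) g, ← conj_pow]
      rw [← inv_pow, mul_inv_rev, ← h1, ← h2]
      congr 1; group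
    rw [sq, ← eq_inv_iff_mul_eq_one]; exact h3
  obtain ⟨b, hbk, hb2, hball⟩ : ∃ b ∈ f.ker, b ^ 2 = 1 ∧
      ∀ i ∈ rest p q, ∀ j ∈ rest p q, i ≠ j → (y i * y j) ^ 2 = b := by
    by_cases h : ∃ i ∈ rest p q, ∃ j ∈ rest p q, i ≠ j
    · obtain ⟨i, hi, j, hj, hij⟩ := h
      refine ⟨_, hb i hi j hj hij, hsq i hi j hj hij, fun k hk l hl hkl => ?_⟩
      have a : ∀ m ∈ rest p q, j ≠ m → (y j * y m) ^ 2 = (y i * y j) ^ 2 := by
        intro m hm hjm
        by_cases him : i = m
        · subst him; exact hsymm j hj i hi hjm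
        · exact (hrot i hi j hj m hm hij him hjm).symm
      by_cases hjk : j = k
      · subst hjk; exact a l hl hkl
      by_cases hjl : j = l
      · subst hjl; rw [hsymm k hk j hj hkl]; exact a k hk hjk
      · rw [← hrot j hj k hk l hl hjk hjl hkl]; exact a k hk hjk
    · push Not at h
      exact ⟨1, f.ker.one_mem, one_pow _, fun i hi j hj hij => absurd (h i hi j hj) hij⟩
  have htop : Subgroup.closure (y '' rest p q) = ⊤ := by
    refine eq_top_of_sup_central _ f.ker hZc hZd fun g => ?_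
    have h1 := closure_eq_top_of_coe_eq_cyc hpq (fun i => f (y i)) (fun i hi => (hy i hi).2)
    have h2 : f g ∈ (Subgroup.closure (y '' rest p q)).map f := by
      rw [MonoidHom.map_closure, Set.image_image, h1]; trivial
    obtain ⟨x, hx, hxg⟩ := h2
    exact ⟨x, hx, x⁻¹ * g, by simp [MonoidHom.mem_ker, hxg], by group⟩
  have hnorm : (Subgroup.zpowers b).Normal := ⟨fun n hn g => by
    rw [hcen n ((Subgroup.zpowers_le_of_mem hbk) hn)]; exact hn⟩
  obtain ⟨-, hcard⟩ := card_le_of_carmichael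
    (fun i => QuotientGroup.mk' (Subgroup.zpowers b) (y i)) (rest p q)
    (fun i hi => by rw [← map_pow, hpow _ (hy i hi).1, map_one])
    (fun i hi j hj hij => by
      rw [← map_mul, ← map_pow, hball i hi j hj hij]
      exact (QuotientGroup.eq_one_iff _).2 (Subgroup.mem_zpowers b))
    (by
      rw [← Set.image_image, ← MonoidHom.map_closure, htop, ← MonoidHom.range_eq_map,
        MonoidHom.range_eq_top]
      exact QuotientGroup.mk'_surjective _)
  rw [← two_mul_card_alt hpq] at hcard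
  have c1 := Subgroup.card_eq_card_quotient_mul_card_subgroup (Subgroup.zpowers b)
  have c2 := Subgroup.card_eq_card_quotient_mul_card_subgroup f.ker
  rw [Nat.card_congr (QuotientGroup.quotientKerEquivOfSurjective f hf).toEquiv] at c2
  have c3 : Nat.card (Subgroup.zpowers b) ≤ 2 := by
    rw [Nat.card_zpowers]
    exact Nat.le_of_dvd two_pos (orderOf_dvd_of_pow_eq_one hb2)
  have c4 : 0 < Nat.card (alternatingGroup α) := Nat.card_pos
  have c5 : Nat.card (alternatingGroup α) * Nat.card f.ker ≤ Nat.card (alternatingGroup α) * 2 := by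
    rw [← c2, c1]
    exact Nat.mul_le_mul (by omega) c3
  exact Nat.le_of_mul_le_mul_left c5 c4

/-- Transfer to the abelian preimage of a cyclic subgroup. -/
theorem pow_index_eq_one_of_stem {Q : Type*} [Group Q] [Finite Q] (f : Γ →* Q)
    (hf : Function.Surjective f) (hZc : f.ker ≤ Subgroup.center Γ) (hZd : f.ker ≤ commutator Γ)
    (c : Q) {z : Γ} (hz : z ∈ f.ker) : z ^ (Subgroup.zpowers c).index = 1 := by
  let C := (Subgroup.zpowers c).comap f
  have hidx : C.index = (Subgroup.zpowers c).index := Subgroup.index_comap_of_surjective _ hf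
  have : C.FiniteIndex := ⟨by rw [hidx]; exact Subgroup.FiniteIndex.index_ne_zero⟩
  let g : C →* Subgroup.zpowers c := (f.comp C.subtype).codRestrict _ (fun x => x.2)
  have hg : g.ker ≤ Subgroup.center C := by
    intro x hx
    have h1 : (x : Γ) ∈ f.ker := congrArg Subtype.val hx
    rw [Subgroup.mem_center_iff]
    intro w
    exact Subtype.ext (Subgroup.mem_center_iff.1 (hZc h1) w)
  let := commGroupOfCyclicCenterQuotient g hg
  have h1 := MonoidHom.transfer_eq_pow (MonoidHom.id C) z (fun k g₀ _ => by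
    rw [mul_assoc, ← Subgroup.mem_center_iff.1 (Subgroup.pow_mem _ (hZc hz) k) g₀,
      inv_mul_cancel_left])
  have h2 : MonoidHom.transfer (MonoidHom.id C) z = 1 :=
    Abelianization.commutator_subset_ker _ (hZd hz)
  rw [h2] at h1
  have h3 := congrArg Subtype.val h1
  rw [← hidx]
  exact h3.symm

/-- The case where a Sylow `3`-subgroup of the alternating group has order three. -/
theorem card_ker_le_two_of_small [Finite Γ] (f : Γ →* alternatingGroup α)
    (hf : Function.Surjective f) (hZc : f.ker ≤ Subgroup.center Γ) (hZd : f.ker ≤ commutator Γ)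
    {p q i : α} (hpq : p ≠ q) (hpi : p ≠ i) (hqi : q ≠ i) {m : ℕ}
    (hm : Nat.card (alternatingGroup α) = m * 3) (hm3 : m ^ 2 % 3 = 1) :
    Nat.card f.ker ≤ 2 := by
  have hidx : (Subgroup.zpowers (⟨cyc p q i, cyc_mem hpq hpi⟩ : alternatingGroup α)).index = m := by
    have h1 := Subgroup.index_mul_card
      (Subgroup.zpowers (⟨cyc p q i, cyc_mem hpq hpi⟩ : alternatingGroup α))
    rw [Nat.card_zpowers, ← Subgroup.orderOf_coe, (isThreeCycle_cyc hpq hpi hqi).orderOf, hm] at h1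
    omega
  have hz : ∀ z ∈ f.ker, z ^ m = 1 := fun z hz => hidx ▸ pow_index_eq_one_of_stem f hf hZc hZd _ hz
  have hk : m ^ 2 = 3 * (m ^ 2 / 3) + 1 := by omega
  refine card_ker_le_two_of_canonical f hf hZc hZd hpq
    (fun γ => γ ^ 3 = 1) ?_ ?_ ?_ (fun _ h => h) ?_
  · intro c hc
    obtain ⟨γ, rfl⟩ := hf c
    have h1 : f γ ^ 3 = 1 := by
      apply Subtype.ext
      rw [Subgroup.coe_pow, ← hc.orderOf, pow_orderOf_eq_one]; rfl
    refine ⟨γ ^ (m ^ 2), ?_, ?_⟩
    · have h2 : γ ^ 3 ∈ f.ker := by rw [MonoidHom.mem_ker, map_pow, h1]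
      rw [← pow_mul, mul_comm, pow_mul, sq, pow_mul, hz _ h2, one_pow]
    · rw [map_pow, hk, pow_succ, pow_mul, h1, one_pow, one_mul]
  · intro γ δ hγ hδ h
    have h1 : δ⁻¹ * γ ∈ f.ker := by simp [MonoidHom.mem_ker, h]
    have h2 : (δ⁻¹ * γ) ^ 3 = 1 := by
      have h3 : Commute δ (δ⁻¹ * γ) := Subgroup.mem_center_iff.1 (hZc h1) δ
      have h4 := h3.mul_pow 3
      rwa [mul_inv_cancel_left, hγ, hδ, one_mul, eq_comm] at h4
    have h3 : (δ⁻¹ * γ) ^ (m ^ 2) = 1 := by rw [sq, pow_mul, hz _ h1, one_pow]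
    rw [hk, pow_succ, pow_mul, h2, one_pow, one_mul, inv_mul_eq_one] at h3
    exact h3.symm
  · intro γ h
    rw [inv_pow, h, inv_one]
  · intro γ g h
    rw [conj_pow, h]; simp

/-- If the alternating group on the complement of the support of a three-cycle is perfect, every
lift of an element centralizing the three-cycle centralizes its lifts. -/
theorem commute_of_commute_cyc (f : Γ →* alternatingGroup α)
    (hf : Function.Surjective f) (hZc : f.ker ≤ Subgroup.center Γ)
    {p q i : α} (hpq : p ≠ q) (hpi : p ≠ i) (hqi : q ≠ i) (h8 : 8 ≤ Fintype.card α)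
    (x : Γ) (hx : (f x : Perm α) = cyc p q i) (g : Γ) (hg : f g * f x = f x * f g) :
    g * x = x * g := by
  classical
  let s : Finset α := ({p, q, i} : Finset α)ᶜ
  have hs : 5 ≤ Nat.card s := by
    have h1 : ({p, q, i} : Finset α).card ≤ 3 := Finset.card_le_three
    rw [Nat.card_eq_fintype_card, Fintype.card_coe, Finset.card_compl]
    omega
  let K := Subgroup.centralizer ({x} : Set Γ)
  let A := (alternatingGroup.ofSubtype s).range
  have hA : ⁅A, A⁆ = A := by
    simp only [A, MonoidHom.range_eq_map]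
    rw [← Subgroup.map_commutator, ← commutator_def, commutator_alternatingGroup_eq_top hs]
  have hAx : ∀ a ∈ A, a * f x = f x * a := by
    intro a ha
    rw [alternatingGroup.mem_range_ofSubtype_iff] at ha
    apply Subtype.ext
    rw [Subgroup.coe_mul, Subgroup.coe_mul, hx]
    refine Perm.Disjoint.commute (fun w => ?_)
    by_cases hw : w ∈ s
    · right
      simp only [s, Finset.mem_compl, Finset.mem_insert, Finset.mem_singleton, not_or] at hw
      exact cyc_apply_of_ne hw.1 hw.2.1 hw.2.2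
    · left
      by_contra h
      exact hw (ha (mem_support.2 h))
  have hDK : ⁅A.comap f, A.comap f⁆ ≤ K := by
    rw [Subgroup.commutator_le]
    intro a ha b hb
    have ha' : a * x * a⁻¹ * x⁻¹ ∈ f.ker := by
      simp [MonoidHom.mem_ker, hAx _ ha]
    have hb' : b * x * b⁻¹ * x⁻¹ ∈ f.ker := by
      simp [MonoidHom.mem_ker, hAx _ hb]
    have ca := Subgroup.mem_center_iff.1 (hZc ha')
    have cb := Subgroup.mem_center_iff.1 (hZc hb')
    set u := a * x * a⁻¹ * x⁻¹ with hu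
    set v := b * x * b⁻¹ * x⁻¹ with hv
    have e1 : a * x * a⁻¹ = u * x := by rw [hu]; group
    have e2 : b * x * b⁻¹ = v * x := by rw [hv]; group
    have e3 : a * b * x * (a * b)⁻¹ = u * v * x := by
      calc a * b * x * (a * b)⁻¹ = a * (b * x * b⁻¹) * a⁻¹ := by group
        _ = (a * v) * x * a⁻¹ := by rw [e2]; group
        _ = v * (a * x * a⁻¹) := by rw [cb]; group
        _ = _ := by rw [e1, ← mul_assoc, ca]
    have e4 : b * a * x * (b * a)⁻¹ = u * v * x := by
      calc b * a * x * (b * a)⁻¹ = b * (a * x * a⁻¹) * b⁻¹ := by group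
        _ = (b * u) * x * b⁻¹ := by rw [e1]; group
        _ = u * (b * x * b⁻¹) := by rw [ca]; group
        _ = _ := by rw [e2, ← mul_assoc]
    have e5 : ⁅a, b⁆ * (u * v * x) * ⁅a, b⁆⁻¹ = u * v * x := by
      conv_lhs => rw [← e4]
      rw [← e3, commutatorElement_def]; group
    have e6 : ⁅a, b⁆ * (u * v * x) = u * v * (⁅a, b⁆ * x) := by
      rw [← mul_assoc, ← mul_assoc, ca, mul_assoc u, cb]; group
    rw [Subgroup.mem_centralizer_singleton_iff]
    rw [mul_inv_eq_iff_eq_mul, e6, mul_assoc (u * v)] at e5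
    exact mul_left_cancel e5
  have hAK : A ≤ K.map f := by
    rw [← hA]
    conv_lhs => rw [← Subgroup.map_comap_eq_self_of_surjective hf A, ← Subgroup.map_commutator]
    exact Subgroup.map_mono hDK
  have hxK : f x ∈ K.map f := ⟨x, Subgroup.mem_centralizer_singleton_iff.2 rfl, rfl⟩
  have hfix : ∀ σ : alternatingGroup α, σ * f x = f x * σ → (σ : Perm α) p = p → σ ∈ K.map f := by
    intro σ hσ hp
    apply hAK
    rw [alternatingGroup.mem_range_ofSubtype_iff]
    have h1 : ∀ w, (σ : Perm α) (cyc p q i w) = cyc p q i ((σ : Perm α) w) := fun w => by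
      have := congrArg (fun τ : alternatingGroup α => (τ : Perm α) w) hσ
      simpa [hx] using this
    have hq : (σ : Perm α) q = q := by
      have := h1 p
      rwa [hp, cyc_apply_fst hpq hqi] at this
    have hi : (σ : Perm α) i = i := by
      have := h1 q
      rwa [hq, cyc_apply_snd] at this
    intro w hw
    rw [mem_support] at hw
    simp only [s, Finset.mem_compl, Finset.mem_insert, Finset.mem_singleton, not_or]
    exact ⟨fun h => hw (h ▸ hp), fun h => hw (h ▸ hq), fun h => hw (h ▸ hi)⟩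
  have hgK : f g ∈ K.map f := by
    have h1 : (f g : Perm α) q = cyc p q i ((f g : Perm α) p) := by
      have := congrArg (fun τ : alternatingGroup α => (τ : Perm α) p) hg
      simpa [hx, cyc_apply_fst hpq hqi] using this
    by_cases hp : (f g : Perm α) p = p
    · exact hfix _ hg hp
    by_cases hq : (f g : Perm α) p = q
    · have h2 := hfix (f x * f x * f g) (by rw [mul_assoc, hg]; group) (by
        simp [hx, hq, cyc_apply_snd, cyc_apply_thd hpi hqi])
      exact (Subgroup.mul_mem_cancel_left _ ((K.map f).mul_mem hxK hxK)).1 h2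
    by_cases hi : (f g : Perm α) p = i
    · have h2 := hfix (f x * f g) (by rw [mul_assoc, hg]) (by
        simp [hx, hi, cyc_apply_thd hpi hqi])
      exact (Subgroup.mul_mem_cancel_left _ hxK).1 h2
    · rw [cyc_apply_of_ne hp hq hi] at h1
      exact absurd ((f g : Perm α).injective h1).symm hpq
  obtain ⟨k, hk, hkg⟩ := hgK
  have h1 : k⁻¹ * g ∈ f.ker := by simp [MonoidHom.mem_ker, hkg]
  have h2 := Subgroup.mem_center_iff.1 (hZc h1) x
  have h3 : k * x = x * k := Subgroup.mem_centralizer_singleton_iff.1 hk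
  calc g * x = k * (k⁻¹ * g * x) := by group
    _ = k * x * (k⁻¹ * g) := by rw [← h2]; group
    _ = _ := by rw [h3]; group

/-- The case of degree at least eight. -/
theorem card_ker_le_two_of_large [Finite Γ] (f : Γ →* alternatingGroup α)
    (hf : Function.Surjective f) (hZc : f.ker ≤ Subgroup.center Γ) (hZd : f.ker ≤ commutator Γ)
    {p q i : α} (hpq : p ≠ q) (hpi : p ≠ i) (hqi : q ≠ i) (h8 : 8 ≤ Fintype.card α) :
    Nat.card f.ker ≤ 2 := by
  have h5 : 5 ≤ Nat.card α := by rw [Nat.card_eq_fintype_card]; omega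
  have hcen : ∀ z ∈ f.ker, ∀ g : Γ, g * z = z * g := fun z hz =>
    Subgroup.mem_center_iff.1 (hZc hz)
  obtain ⟨x, hx⟩ := hf ⟨cyc p q i, cyc_mem hpq hpi⟩
  have hx' : (f x : Perm α) = cyc p q i := by rw [hx]
  have h3c : (f x : Perm α).IsThreeCycle := hx' ▸ isThreeCycle_cyc hpq hpi hqi
  have hx3 : f x ^ 3 = 1 := by
    apply Subtype.ext
    rw [Subgroup.coe_pow, ← h3c.orderOf, pow_orderOf_eq_one]; rfl
  obtain ⟨τ, hτ⟩ := isConj_iff.1 (alternatingGroup.isThreeCycle_isConj h5 h3c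
    (τ := (f x)⁻¹) h3c.inv)
  obtain ⟨t, rfl⟩ := hf τ
  -- first normalisation: a lift inverted by `t`
  have hc : t * x * t⁻¹ * x ∈ f.ker := by simp [MonoidHom.mem_ker, hτ]
  set c := t * x * t⁻¹ * x with hcdef
  have e1 : t * x * t⁻¹ = c * x⁻¹ := by rw [hcdef]; group
  have e2 : t * x⁻¹ * t⁻¹ = x * c⁻¹ := by
    rw [show t * x⁻¹ * t⁻¹ = (t * x * t⁻¹)⁻¹ by group, e1]; group
  let w := c * x⁻¹ * x⁻¹
  have hw1 : f w = f x := by
    have : f c = 1 := hc
    simp only [w, map_mul, this, one_mul, map_inv]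
    rw [← mul_inv_rev, inv_eq_iff_mul_eq_one, ← hx3]
    simp only [pow_succ, pow_zero, one_mul]
  have hw2 : t * w * t⁻¹ = w⁻¹ := by
    calc t * w * t⁻¹ = (t * c) * x⁻¹ * t⁻¹ * (t * x⁻¹ * t⁻¹) := by simp only [w]; group
      _ = c * (t * x⁻¹ * t⁻¹) * (t * x⁻¹ * t⁻¹) := by rw [hcen c hc t]; group
      _ = (x * c) * c⁻¹ * (x * c⁻¹) := by rw [e2, hcen c hc x]; group
      _ = w⁻¹ := by simp only [w, mul_inv_rev, inv_inv, mul_assoc, mul_inv_cancel_left]
  have hw3 : w ^ 3 ∈ f.ker := by rw [MonoidHom.mem_ker, map_pow, hw1, hx3]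
  have hw4 : w ^ 3 = (w ^ 3)⁻¹ := by
    rw [← inv_pow, ← hw2, conj_pow, hcen _ hw3 t, mul_inv_cancel_right]
  let v := w ^ 4
  have hv1 : f v = f x := by
    simp only [v]
    rw [map_pow, hw1, pow_succ, hx3, one_mul]
  have hv2 : t * v * t⁻¹ = v⁻¹ := by
    simp only [v]
    rw [← conj_pow, hw2, inv_pow]
  have hv3 : v ^ 3 = 1 := by
    have : (w ^ 3) ^ 2 = 1 := by rw [sq, ← eq_inv_iff_mul_eq_one]; exact hw4
    simp only [v]
    rw [← pow_mul, show 4 * 3 = 3 * 2 * 2 by norm_num, pow_mul, pow_mul, this, one_pow]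
  refine card_ker_le_two_of_canonical f hf hZc hZd hpq
    (fun γ => ∃ g, γ = g * v * g⁻¹) ?_ ?_ ?_ ?_ ?_
  · intro σ hσ
    obtain ⟨ρ, hρ⟩ := isConj_iff.1 (alternatingGroup.isThreeCycle_isConj h5 h3c hσ)
    obtain ⟨g, rfl⟩ := hf ρ
    exact ⟨_, ⟨g, rfl⟩, by rw [← hρ, ← hv1]; simp⟩
  · rintro _ _ ⟨g, rfl⟩ ⟨h, rfl⟩ he
    have h1 := commute_of_commute_cyc f hf hZc hpq hpi hqi h8 v (hv1 ▸ hx') (h⁻¹ * g) (by
      simp only [map_mul, map_inv] at he ⊢
      calc (f h)⁻¹ * f g * f v = (f h)⁻¹ * (f g * f v * (f g)⁻¹) * f g := by group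
        _ = _ := by rw [he]; group)
    calc g * v * g⁻¹ = h * (h⁻¹ * g * v) * g⁻¹ := by group
      _ = _ := by rw [h1]; group
  · rintro _ ⟨g, rfl⟩
    exact ⟨g * t, by rw [show g * t * v * (g * t)⁻¹ = g * (t * v * t⁻¹) * g⁻¹ by group, hv2]; group⟩
  · rintro _ ⟨g, rfl⟩
    rw [conj_pow, hv3]; simp
  · rintro _ h ⟨g, rfl⟩
    exact ⟨h * g, by group⟩

end CL.Alt
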